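import Groth.Agent.GrpHomRep.Dict
import Groth.Agent.TorusLift.Point

/-!
# The functor of homomorphisms with bounded weights is represented by an open subscheme of an affine scheme
-/

set_option autoImplicit false
set_option linter.style.haveILetI false
set_option backward.isDefEq.respectTransparency false
set_option maxHeartbeats 800000

universe u

open CategoryTheory Limits MonoidalCategory CartesianMonoidalCategory AlgebraicGeometry TensorProduct
open scoped CategoryTheory.Obj MonObj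

noncomputable section

namespace Groth.Agent.GrpHomRep

open Groth.Agent.MTBridge Groth.Agent.TorusLift

variable {R : Type u} [CommRing R] {A : Type u} [CommRing A] [HopfAlgebra R A] {M : Type u} [CommGroup M]

/-- morphisms agree when they agree on affine test schemes -/
theorem ext_affine {T Y : Over (Spec (CommRingCat.of R))} (a b : T ⟶ Y)
    (h : ∀ (C : Type u) [CommRing C] [Algebra R C] (p : aT R C ⟶ T), p ≫ a = p ≫ b) : a = b := by
  apply Over.OverMorphism.ext
  refine T.left.affineCover.hom_ext _ _ fun i => ?_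
  let S : CommRingCat.{u} := Γ(T.left.affineCover.X i, ⊤)
  let f₀ : Spec S ⟶ T.left := (T.left.affineCover.X i).isoSpec.inv ≫ T.left.affineCover.f i
  letI : Algebra R S := (Spec.preimage (f₀ ≫ T.hom)).hom.toAlgebra
  have h1 := congrArg CommaMorphism.left (h S (Over.homMk f₀ (Spec.map_preimage (f₀ ≫ T.hom)).symm))
  rw [← cancel_epi (T.left.affineCover.X i).isoSpec.inv]
  exact ((Category.assoc _ _ _).symm.trans h1).trans (Category.assoc _ _ _)

/-- families agree when they agree on affine test schemes -/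
theorem fam_ext {T G : Over (Spec (CommRingCat.of R))} (φ ψ : DH R M ⊗ T ⟶ G)
    (h : ∀ (C : Type u) [CommRing C] [Algebra R C] (p : aT R C ⟶ T),
      (DH R M ◁ p) ≫ φ = (DH R M ◁ p) ≫ ψ) : φ = ψ :=
  ext_affine _ _ fun C _ _ p => by
    have e : p = lift (p ≫ fst _ _) (𝟙 (aT R C)) ≫ (DH R M ◁ (p ≫ snd _ _)) :=
      CartesianMonoidalCategory.hom_ext _ _ (by simp) (by simp)
    rw [e, Category.assoc, Category.assoc, h]

/-- restricting a family -/
theorem isHomFamily_whisker {H G T T' : Over (Spec (CommRingCat.of R))} [GrpObj H] [GrpObj G] (v : T' ⟶ T)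
    {φ : H ⊗ T ⟶ G} (h : AutFam.IsHomFamily H G φ) : AutFam.IsHomFamily H G ((H ◁ v) ≫ φ) := fun X a b t => by
  simp only [lift_whiskerLeft_assoc]
  exact h X a b (t ≫ v)

/-- a condition on families over affine test schemes -/
abbrev FamPred (R A M : Type u) [CommRing R] [CommRing A] [HopfAlgebra R A] [CommGroup M] :=
  ∀ (C : Type u) [CommRing C] [Algebra R C], (A →ₐ[R] MonoidAlgebra C M) → Prop

/-- all affine restrictions satisfy the condition -/
def AffP (P : FamPred R A M) {T : Over (Spec (CommRingCat.of R))} (ψ : DH R M ⊗ T ⟶ AG R A) : Prop :=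
  ∀ (C : Type u) [CommRing C] [Algebra R C] (x : aT R C ⟶ T) (u : A →ₐ[R] MonoidAlgebra C M),
    (DH R M ◁ x) ≫ ψ = fam u → P C u

/-- representing the families satisfying a condition -/
structure Rep (P : FamPred R A M) (X : Over (Spec (CommRingCat.of R))) (φ : DH R M ⊗ X ⟶ AG R A) : Prop where
  hom : AutFam.IsHomFamily (DH R M) (AG R A) φ
  mem : AffP P φ
  lift : ∀ (C : Type u) [CommRing C] [Algebra R C] (u : A →ₐ[R] MonoidAlgebra C M), IsGH u → P C u →
    ∃! x : aT R C ⟶ X, (DH R M ◁ x) ≫ φ = fam u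

theorem Rep.uniq {P : FamPred R A M} {X T : Over (Spec (CommRingCat.of R))} {φ : DH R M ⊗ X ⟶ AG R A}
    (hX : Rep P X φ) (a b : T ⟶ X) (h : (DH R M ◁ a) ≫ φ = (DH R M ◁ b) ≫ φ) : a = b := by
  refine ext_affine a b fun C _ _ p => ?_
  obtain ⟨u, hu⟩ := exists_fam ((DH R M ◁ (p ≫ a)) ≫ φ)
  refine (hX.lift C u ((isHomFamily_fam u).1 ?_) (hX.mem C _ u hu)).unique hu ?_
  · rw [← hu]; exact isHomFamily_whisker _ hX.hom
  · rw [← hu, whiskerLeft_comp_assoc, whiskerLeft_comp_assoc, h]

/-- **Families over arbitrary schemes are classified.** -/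
theorem Rep.classify {P : FamPred R A M} {X T : Over (Spec (CommRingCat.of R))} {φ : DH R M ⊗ X ⟶ AG R A}
    (hX : Rep P X φ) (ψ : DH R M ⊗ T ⟶ AG R A) (hψ : AutFam.IsHomFamily (DH R M) (AG R A) ψ)
    (hP : AffP P ψ) : ∃! x : T ⟶ X, (DH R M ◁ x) ≫ φ = ψ := by
  have key : ∀ (C : Type u) [CommRing C] [Algebra R C] (p : aT R C ⟶ T),
      ∃ x : aT R C ⟶ X, (DH R M ◁ x) ≫ φ = (DH R M ◁ p) ≫ ψ := fun C _ _ p => by
    obtain ⟨u, hu⟩ := exists_fam ((DH R M ◁ p) ≫ ψ)
    obtain ⟨x, hx, -⟩ := hX.lift C u ((isHomFamily_fam u).1 (hu ▸ isHomFamily_whisker p hψ)) (hP C p u hu)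
    exact ⟨x, hx.trans hu.symm⟩
  let 𝒰 := T.left.affineCover
  have hloc : ∀ i, ∃ x : 𝒰.X i ⟶ X.left, ∃ hw : x ≫ X.hom = 𝒰.f i ≫ T.hom,
      (DH R M ◁ (Over.homMk x hw : Over.mk (𝒰.f i ≫ T.hom) ⟶ X)) ≫ φ =
        (DH R M ◁ (Over.homMk (𝒰.f i) rfl : Over.mk (𝒰.f i ≫ T.hom) ⟶ T)) ≫ ψ := by
    intro i
    let S : CommRingCat.{u} := Γ(𝒰.X i, ⊤)
    let f₀ : Spec S ⟶ T.left := (𝒰.X i).isoSpec.inv ≫ 𝒰.f i
    letI : Algebra R S := (Spec.preimage (f₀ ≫ T.hom)).hom.toAlgebra
    let p : aT R S ⟶ T := Over.homMk f₀ (Spec.map_preimage (f₀ ≫ T.hom)).symm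
    obtain ⟨x, hx⟩ := key S p
    let e : Over.mk (𝒰.f i ≫ T.hom) ⟶ aT R S := Over.homMk (𝒰.X i).isoSpec.hom (by
      show (𝒰.X i).isoSpec.hom ≫ Spec.map (CommRingCat.ofHom (algebraMap R S)) = 𝒰.f i ≫ T.hom
      rw [show Spec.map (CommRingCat.ofHom (algebraMap R S)) = f₀ ≫ T.hom from Spec.map_preimage (f₀ ≫ T.hom)]
      simp [f₀])
    refine ⟨(e ≫ x).left, Over.w (e ≫ x), ?_⟩
    rw [show (Over.homMk (e ≫ x).left _ : Over.mk (𝒰.f i ≫ T.hom) ⟶ X) = e ≫ x from rfl, whiskerLeft_comp_assoc, hx,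
      ← whiskerLeft_comp_assoc]
    congr 3
    ext : 1
    exact Iso.hom_inv_id_assoc (𝒰.X i).isoSpec (𝒰.f i)
  choose x hw hx using hloc
  have hcompat : ∀ i j, pullback.fst (𝒰.f i) (𝒰.f j) ≫ x i = pullback.snd (𝒰.f i) (𝒰.f j) ≫ x j := by
    intro i j
    let W : Over (Spec (CommRingCat.of R)) := Over.mk ((pullback.fst (𝒰.f i) (𝒰.f j) ≫ 𝒰.f i) ≫ T.hom)
    let a : W ⟶ Over.mk (𝒰.f i ≫ T.hom) := Over.homMk (pullback.fst _ _) (Category.assoc _ _ _).symm
    let b : W ⟶ Over.mk (𝒰.f j ≫ T.hom) := Over.homMk (pullback.snd _ _) (by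
      show pullback.snd _ _ ≫ 𝒰.f j ≫ T.hom = _
      rw [← pullback.condition_assoc]
      exact (Category.assoc _ _ _).symm)
    refine congrArg CommaMorphism.left (hX.uniq (a ≫ Over.homMk (x i) (hw i)) (b ≫ Over.homMk (x j) (hw j)) ?_)
    rw [whiskerLeft_comp_assoc, whiskerLeft_comp_assoc, hx, hx, ← whiskerLeft_comp_assoc, ← whiskerLeft_comp_assoc]
    exact congrArg (fun v => (DH R M ◁ v) ≫ ψ) (Over.OverMorphism.ext pullback.condition)
  refine ⟨Over.homMk (𝒰.glueMorphisms x hcompat) (𝒰.hom_ext _ _ fun i => by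
    rw [Scheme.Cover.ι_glueMorphisms_assoc, hw]), ?_, ?_⟩
  · refine fam_ext _ _ fun C _ _ p => ?_
    obtain ⟨y, hy⟩ := key C p
    rw [← hy, ← whiskerLeft_comp_assoc]
    congr 3
    apply Over.OverMorphism.ext
    refine Scheme.Cover.hom_ext (𝒰.pullback₁ p.left) _ _ fun i => ?_
    let W : Over (Spec (CommRingCat.of R)) := Over.mk (pullback.fst p.left (𝒰.f i) ≫ (aT R C).hom)
    let a : W ⟶ aT R C := Over.homMk (pullback.fst _ _) rfl
    let b : W ⟶ Over.mk (𝒰.f i ≫ T.hom) := Over.homMk (pullback.snd _ _) (by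
      show pullback.snd p.left (𝒰.f i) ≫ 𝒰.f i ≫ T.hom = pullback.fst _ _ ≫ _
      rw [← pullback.condition_assoc, Over.w p])
    have h1 := congrArg CommaMorphism.left (hX.uniq (a ≫ y) (b ≫ Over.homMk (x i) (hw i)) (by
      rw [whiskerLeft_comp_assoc, whiskerLeft_comp_assoc, hx, hy, ← whiskerLeft_comp_assoc, ← whiskerLeft_comp_assoc]
      exact congrArg (fun v => (DH R M ◁ v) ≫ ψ) (Over.OverMorphism.ext pullback.condition)))
    refine Eq.trans ?_ h1.symm
    show pullback.fst p.left (𝒰.f i) ≫ p.left ≫ 𝒰.glueMorphisms x hcompat = pullback.snd p.left (𝒰.f i) ≫ x i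
    rw [pullback.condition_assoc, Scheme.Cover.ι_glueMorphisms]
  · intro z hz
    apply Over.OverMorphism.ext
    refine 𝒰.hom_ext _ _ fun i => ?_
    show 𝒰.f i ≫ z.left = 𝒰.f i ≫ 𝒰.glueMorphisms x hcompat
    rw [Scheme.Cover.ι_glueMorphisms]
    refine congrArg CommaMorphism.left (hX.uniq
      ((Over.homMk (𝒰.f i) rfl : Over.mk (𝒰.f i ≫ T.hom) ⟶ T) ≫ z) (Over.homMk (x i) (hw i)) ?_)
    rw [whiskerLeft_comp_assoc, hz, hx]

/-- the structure map of a point -/
theorem exists_spMap {B C : Type u} [CommRing B] [Algebra R B] [CommRing C] [Algebra R C]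
    (t : aT R B ⟶ aT R C) : ∃ f : C →ₐ[R] B, t = spMap f :=
  isHomFamily_fam.exists_spMap_of_affine t

variable {W : Type u} [AddCommGroup W] [Module R W] (c : Coact R A W)

/-- only weights in `B` occur -/
def InB (B : Finset M) : FamPred R A M := fun _ _ _ u => ∀ m ∉ B, proj₀ c u m = 0

theorem map_proj₀ {C C' : Type u} [CommRing C] [Algebra R C] [CommRing C'] [Algebra R C']
    (u : A →ₐ[R] MonoidAlgebra C M) (f : C →ₐ[R] C') (m : M) (w : W) :
    f.toLinearMap.rTensor W (proj₀ c u m w) = proj₀ c (mapT f u) m w := by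
  have h := map_proj c u f m (1 ⊗ₜ w)
  simpa [proj_tmul] using h

theorem rTensor_smul {C C' : Type u} [CommRing C] [Algebra R C] [CommRing C'] [Algebra R C']
    (f : C →ₐ[R] C') (g : C) (y : C ⊗[R] W) :
    f.toLinearMap.rTensor W (g • y) = f g • f.toLinearMap.rTensor W y := by
  induction y using TensorProduct.induction_on with
  | zero => simp
  | add a b ha hb => simp only [smul_add, map_add, ha, hb]
  | tmul a b => simp [TensorProduct.smul_tmul']

variable {R' : Type u} [CommRing R'] [Algebra R R'] (u : A →ₐ[R] MonoidAlgebra R' M) (B : Finset M)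

/-- functions killing all weights outside `B` -/
def wtIdeal : Ideal R' where
  carrier := {g | ∀ m ∉ B, ∀ w, g • proj₀ c u m w = 0}
  zero_mem' m _ w := zero_smul _ _
  add_mem' {a b} ha hb m hm w := by rw [add_smul, ha m hm w, hb m hm w, add_zero]
  smul_mem' r a ha m hm w := by rw [smul_eq_mul, mul_smul, ha m hm w, smul_zero]

theorem smul_proj_eq_zero {g : R'} (hg : g ∈ wtIdeal c u B) {m : M} (hm : m ∉ B) (x : R' ⊗[R] W) :
    g • proj c u m x = 0 := by
  induction x using TensorProduct.induction_on with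
  | zero => simp
  | add a b ha hb => rw [map_add, smul_add, ha, hb, add_zero]
  | tmul a b => rw [proj_tmul, smul_comm, hg m hm b, smul_zero]

variable {u} in
/-- the pullback has weights in `B` iff the ideal becomes the unit ideal -/
theorem inB_mapT_iff [Module.Finite R W] (hu : IsGH u) {C : Type u} [CommRing C] [Algebra R C] (f : R' →ₐ[R] C) :
    InB c B C (mapT f u) ↔ (wtIdeal c u B).map f = ⊤ := by
  classical
  constructor
  · intro h
    by_contra hne
    obtain ⟨p, hp, hle⟩ := Ideal.exists_le_maximal _ hne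
    haveI := hp
    letI : Field (C ⧸ p) := Ideal.Quotient.field p
    let q : C →ₐ[R] C ⧸ p := Ideal.Quotient.mkₐ R p
    letI : Algebra R' (C ⧸ p) := (q.comp f).toRingHom.toAlgebra
    haveI : IsScalarTower R R' (C ⧸ p) := .of_algebraMap_eq fun r => ((q.comp f).commutes r).symm
    obtain ⟨F, hF⟩ := exists_finite_weights c u
    have hex : ∀ m : M, ∃ g : R', q (f g) ≠ 0 ∧ (m ∉ B → ∀ x, g • proj c u m x = 0) := fun m => by
      by_cases hm : m ∈ B
      · exact ⟨1, by simp, fun h' => absurd hm h'⟩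
      · haveI : Module.Finite R' (R' ⊗[R] W) := Module.Finite.base_change R R' W
        have h0 : ∀ w, proj₀ c (mapT (q.comp f) u) m w = 0 := fun w => by
          rw [← map_proj₀ c u (q.comp f) m w, show ((q.comp f).toLinearMap.rTensor W) =
              q.toLinearMap.rTensor W ∘ₗ f.toLinearMap.rTensor W by rw [← LinearMap.rTensor_comp]; rfl,
            LinearMap.comp_apply, map_proj₀, h m hm, LinearMap.zero_apply, map_zero]
        obtain ⟨g, hg, hg'⟩ := exists_smul_eq_zero_of_field (proj c u m)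
          (fun x => (proj_comp c hu m m x).1 rfl) (K := C ⧸ p)
          (lTensor_proj_eq_zero c u m (by
            rw [show IsScalarTower.toAlgHom R R' (C ⧸ p) = q.comp f from AlgHom.ext fun _ => rfl]
            refine LinearMap.ext fun z => ?_
            induction z using TensorProduct.induction_on with
            | zero => simp
            | add a b ha hb => rw [map_add, ha, hb, map_add]
            | tmul a b => rw [proj_tmul, h0, smul_zero, LinearMap.zero_apply]))
        exact ⟨g, hg, fun _ => hg'⟩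
    choose g hg hg' using hex
    have hmem : (∏ m ∈ F, g m) ∈ wtIdeal c u B := fun m hm w => by
      by_cases hmF : m ∈ F
      · have h1 := hg' m hm (1 ⊗ₜ w)
        rw [proj_tmul, one_smul] at h1
        rw [← Finset.prod_erase_mul F g hmF, mul_smul, h1, smul_zero]
      · have h1 : proj c u m (1 ⊗ₜ w) = 0 := by rw [hF m hmF]; rfl
        rw [proj_tmul, one_smul] at h1
        rw [h1, smul_zero]
    have h2 : q (f (∏ m ∈ F, g m)) = 0 :=
      Ideal.Quotient.eq_zero_iff_mem.2 (hle (Ideal.mem_map_of_mem _ hmem))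
    rw [map_prod, map_prod] at h2
    exact (Finset.prod_ne_zero_iff.2 fun m _ => hg m) h2
  · intro h m hm
    refine LinearMap.ext fun w => ?_
    let J : Ideal C :=
      { carrier := {t | t • proj₀ c (mapT f u) m w = 0}
        zero_mem' := zero_smul _ _
        add_mem' := fun {a b} (ha : a • _ = 0) (hb : b • _ = 0) => by
          show (a + b) • _ = 0
          rw [add_smul, ha, hb, add_zero]
        smul_mem' := fun r a (ha : a • _ = 0) => by
          show (r • a) • _ = 0
          rw [smul_eq_mul, mul_smul, ha, smul_zero] }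
    have hle : (wtIdeal c u B).map f ≤ J := Ideal.map_le_iff_le_comap.2 fun g hg => by
      show f g • proj₀ c (mapT f u) m w = 0
      rw [← map_proj₀, ← rTensor_smul, hg m hm w, map_zero]
    have h1 : (1 : C) • proj₀ c (mapT f u) m w = 0 := hle (h ▸ Submodule.mem_top)
    rw [one_smul] at h1
    exact h1

/-- the open of weights in `B` -/
def wtOpen : (Spec (CommRingCat.of R')).Opens :=
  ⟨(PrimeSpectrum.zeroLocus (wtIdeal c u B : Set R'))ᶜ, (PrimeSpectrum.isClosed_zeroLocus _).isOpen_compl⟩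

theorem range_subset_iff {C : Type u} [CommRing C] [Algebra R C] (f : R' →ₐ[R] C) :
    Set.range (spMap f).left ⊆ (wtOpen c u B : Set ↥(Spec (CommRingCat.of R'))) ↔
      (wtIdeal c u B).map f = ⊤ := by
  constructor
  · intro h
    by_contra hne
    obtain ⟨p, hp, hle⟩ := Ideal.exists_le_maximal _ hne
    exact h ⟨⟨p, hp.isPrime⟩, rfl⟩ (fun g hg => hle (Ideal.mem_map_of_mem f hg))
  · rintro h _ ⟨p, rfl⟩ hp
    refine p.isPrime.ne_top (top_le_iff.1 (h ▸ Ideal.map_le_iff_le_comap.2 fun g hg => ?_))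
    exact hp hg

/-- the open subscheme -/
abbrev wtX : Over (Spec (CommRingCat.of R)) := Over.mk ((wtOpen c u B).ι ≫ (aT R R').hom)

/-- its inclusion -/
abbrev wtι : wtX c u B ⟶ aT R R' := Over.homMk (wtOpen c u B).ι rfl

/-- its family -/
abbrev wtFam : DH R M ⊗ wtX c u B ⟶ AG R A := (DH R M ◁ wtι c u B) ≫ fam u

variable {u} in
/-- **The open subscheme represents the families with weights in `B`.** -/
theorem rep_wtX [Module.Finite R W] (hu : IsGH u) (P₀ : FamPred R A M)
    (hsub : ∀ (C : Type u) [CommRing C] [Algebra R C] (v : A →ₐ[R] MonoidAlgebra C M), IsGH v →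
      InB c B C v → P₀ C v)
    (huniv : ∀ (C : Type u) [CommRing C] [Algebra R C] (v : A →ₐ[R] MonoidAlgebra C M), IsGH v → P₀ C v →
      ∃ f : R' →ₐ[R] C, mapT f u = v)
    (hinj : ∀ (C : Type u) [CommRing C] [Algebra R C] (f g : R' →ₐ[R] C), mapT f u = mapT g u → f = g) :
    Rep (InB c B) (wtX c u B) (wtFam c u B) where
  hom := isHomFamily_whisker _ ((isHomFamily_fam u).2 hu)
  mem C _ _ x v hv := by
    obtain ⟨f, hf⟩ := exists_spMap (x ≫ wtι c u B)
    rw [← whiskerLeft_comp_assoc, hf, whisker_fam] at hv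
    rw [← fam_inj hv, inB_mapT_iff c B hu, ← range_subset_iff]
    rintro _ ⟨p, rfl⟩
    rw [← hf]
    exact (x.left p).2
  lift C _ _ v hv hB := by
    obtain ⟨f, rfl⟩ := huniv C v hv (hsub C v hv hB)
    have hr := (range_subset_iff c u B f).2 ((inB_mapT_iff c B hu f).1 hB)
    let l := IsOpenImmersion.lift (wtOpen c u B).ι (spMap f).left (by rw [Scheme.Opens.range_ι]; exact hr)
    have hl : l ≫ (wtOpen c u B).ι = (spMap f).left := IsOpenImmersion.lift_fac _ _ _
    let x : aT R C ⟶ wtX c u B := Over.homMk l (by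
      show l ≫ (wtOpen c u B).ι ≫ _ = _
      rw [reassoc_of% hl]
      exact Over.w (spMap f))
    have hx : x ≫ wtι c u B = spMap f := Over.OverMorphism.ext hl
    refine ⟨x, ?_, fun y hy => ?_⟩
    · show (DH R M ◁ x) ≫ (DH R M ◁ wtι c u B) ≫ fam u = _
      rw [← whiskerLeft_comp_assoc, hx, whisker_fam]
    · obtain ⟨g, hg⟩ := exists_spMap (y ≫ wtι c u B)
      have hy' : (DH R M ◁ y) ≫ (DH R M ◁ wtι c u B) ≫ fam u = fam (mapT f u) := hy
      rw [← whiskerLeft_comp_assoc, hg, whisker_fam] at hy'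
      have hgf := hinj C g f (fam_inj hy')
      apply Over.OverMorphism.ext
      rw [← cancel_mono (wtOpen c u B).ι]
      show (y ≫ wtι c u B).left = (x ≫ wtι c u B).left
      rw [hg, hx, hgf]

end Groth.Agent.GrpHomRep
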