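import Groth.Agent.MTBridge.EssFree
import Groth.Agent.MTBridge.Transporter
import Groth.Agent.HomDiag.Points
import Groth.Agent.ClosedRep.EssFreeLFP
import Groth.Prelude.Def_AutFam

/-!
# Homomorphisms into a closed subgroup form a closed subscheme
-/

set_option autoImplicit false
set_option linter.style.haveILetI false
set_option backward.isDefEq.respectTransparency false
set_option maxHeartbeats 800000

universe u

open CategoryTheory Limits MonoidalCategory CartesianMonoidalCategory AlgebraicGeometry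
open scoped CategoryTheory.Obj MonObj

noncomputable section

namespace Groth.Agent.GrpHomRep

open Groth.Agent.MTBridge

/-- A diagonalisable group is of multiplicative type. -/
theorem locally_DS (S : Scheme.{u}) (M : Type) [AddCommGroup M] :
    TwC.Locally S TwC.Topology.fpqc (fun S' g => ∃ (N : Type) (_ : AddCommGroup N),
      Nonempty (Grp.mk (Red.bc g (Red.DS S M)) ≅ Grp.mk (Red.DS S' N))) :=
  ⟨S, 𝟙 S, inferInstance, inferInstance,
    fun V hV => ⟨V, hV.isCompact, Set.image_id _⟩,
    fun _ => ⟨⊤, trivial, M, inferInstance, ⟨bcDS _ M⟩⟩⟩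

/-- **Homomorphisms into a closed subgroup form a closed subscheme of finite presentation.** -/
theorem isClosedImmersion_homMap {S : Scheme.{u}} {D H G : Over S} [GrpObj D] [GrpObj H] [GrpObj G]
    (hD : TwC.Locally S TwC.Topology.fpqc (fun S' g => ∃ (N : Type) (_ : AddCommGroup N),
      Nonempty (Grp.mk (Red.bc g D) ≅ Grp.mk (Red.DS S' N)))) (hDa : IsAffineHom D.hom)
    (k : H ⟶ G) [IsMonHom k] [IsClosedImmersion k.left] [LocallyOfFinitePresentation k.left]
    {AH AG : Over S} {υH : D ⊗ AH ⟶ H} (hAH : AutFam.RepresentsHom D H AH υH)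
    {υG : D ⊗ AG ⟶ G} (hAG : AutFam.RepresentsHom D G AG υG) (φ : AH ⟶ AG)
    (hφ : (D ◁ φ) ≫ υG = υH ≫ k) : IsClosedImmersion φ.left ∧ LocallyOfFinitePresentation φ.left := by
  haveI := hDa
  haveI : Mono k := (Over.forget S).mono_of_mono_map (inferInstanceAs (Mono k.left))
  obtain ⟨W, j, hj, hjf, hW⟩ := ClosedRep.exists_closed_preimage_essFree_lfp (X := D) (T := AG) υG k
    (isEssentiallyFree D hD)
  haveI := hj
  haveI := hjf
  haveI : Mono j := (Over.forget S).mono_of_mono_map (inferInstanceAs (Mono j.left))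
  have hfamG : ∀ {T : Over S} (x : T ⟶ AG), AutFam.IsHomFamily D G ((D ◁ x) ≫ υG) := fun x X a b t => by
    simp only [lift_whiskerLeft_assoc]
    exact hAG.1 X a b (t ≫ x)
  -- the composite lands in the closed subscheme
  obtain ⟨e, he⟩ : ∃ e : AH ⟶ W, e ≫ j = φ := (hW AH φ).2 fun T'' t a =>
    ⟨lift a t ≫ υH, by rw [Category.assoc, ← hφ, lift_whiskerLeft_assoc]⟩
  -- the closed subscheme carries a family into `H`
  obtain ⟨ψ, hψ⟩ : ∃ ψ : D ⊗ W ⟶ H, ψ ≫ k = (D ◁ j) ≫ υG := by
    obtain ⟨b, hb⟩ := (hW W j).1 ⟨𝟙 _, Category.id_comp _⟩ (D ⊗ W) (snd D W) (fst D W)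
    refine ⟨b, hb.symm.trans ?_⟩
    congr 1
  have hψfam : AutFam.IsHomFamily D H ψ := fun X a b t => by
    rw [← cancel_mono k, MonObj.mul_comp]
    simp only [Category.assoc, hψ]
    exact hfamG j X a b t
  obtain ⟨e', he', -⟩ := hAH.2 W ψ hψfam
  have h1 : e' ≫ φ = j := (hAG.2 W _ (hfamG j)).unique
    (by rw [whiskerLeft_comp_assoc, hφ, ← Category.assoc, he', hψ]) rfl
  have hφfam : AutFam.IsHomFamily D H υH := hAH.1
  have h2 : e ≫ e' = 𝟙 AH := (hAH.2 AH υH hφfam).unique (by
    rw [← cancel_mono k, whiskerLeft_comp_assoc, he', Category.assoc, hψ, ← whiskerLeft_comp_assoc, he, hφ])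
    (by simp)
  have h3 : e' ≫ e = 𝟙 W := by rw [← cancel_mono j, Category.assoc, he, h1, Category.id_comp]
  haveI : IsIso e.left := ⟨e'.left, congrArg CommaMorphism.left h2, congrArg CommaMorphism.left h3⟩
  rw [← he, Over.comp_left]
  exact ⟨inferInstance, inferInstance⟩

end Groth.Agent.GrpHomRep
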