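import Groth.Agent.GrpHomRep.Glue

/-!
# The union of the schemes of homomorphisms with bounded weights
-/

set_option autoImplicit false
set_option linter.style.haveILetI false
set_option backward.isDefEq.respectTransparency false
set_option maxHeartbeats 800000
set_option linter.unusedSectionVars false

universe u

open CategoryTheory Limits MonoidalCategory CartesianMonoidalCategory AlgebraicGeometry TensorProduct
open scoped CategoryTheory.Obj MonObj

noncomputable section

namespace Groth.Agent.GrpHomRep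

open Groth.Agent.MTBridge Groth.Agent.TorusLift Groth.Agent.HomRep

variable {R : Type u} [CommRing R] {A : Type u} [CommRing A] [HopfAlgebra R A] {M : Type u} [CommGroup M]
  [DecidableEq M] {W : Type u} [AddCommGroup W] [Module R W] (c : Coact R A W)

/-- the system of schemes of bounded homomorphisms -/
structure Sys where
  X : Finset M → Over (Spec (CommRingCat.of R))
  φ : ∀ B, DH R M ⊗ X B ⟶ AG R A
  rep : ∀ B, Rep (InB c B) (X B) (φ B)
  opn : ∀ {B B' : Finset M}, B ⊆ B' → ∀ s : X B ⟶ X B', (DH R M ◁ s) ≫ φ B' = φ B → IsOpenImmersion s.left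
  qa : ∀ B, (X B).left.IsQuasiAffine

variable {c} (D : Sys (M := M) c)

instance compactSpace_aT (C : Type u) [CommRing C] [Algebra R C] : CompactSpace (aT R C).left :=
  inferInstanceAs (CompactSpace (PrimeSpectrum C))

namespace Sys

/-- the transition maps -/
def tr {B B' : Finset M} (h : B ⊆ B') : D.X B ⟶ D.X B' :=
  ((D.rep B').classify (D.φ B) (D.rep B).hom (affP_mono c h (D.rep B).mem)).choose

theorem tr_spec {B B' : Finset M} (h : B ⊆ B') : (DH R M ◁ D.tr h) ≫ D.φ B' = D.φ B :=
  ((D.rep B').classify (D.φ B) (D.rep B).hom (affP_mono c h (D.rep B).mem)).choose_spec.1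

/-- the diagram -/
def F : Finset M ⥤ Scheme.{u} where
  obj B := (D.X B).left
  map {B B'} f := (D.tr (leOfHom f)).left
  map_id B := by
    rw [show D.tr (leOfHom (𝟙 B)) = 𝟙 _ from (D.rep B).uniq _ _ (by rw [tr_spec]; simp)]
    rfl
  map_comp {B B' B''} f g := by
    rw [← Over.comp_left, show D.tr (leOfHom f) ≫ D.tr (leOfHom g) = D.tr (leOfHom (f ≫ g)) from
      (D.rep B'').uniq _ _ (by rw [whiskerLeft_comp_assoc, tr_spec, tr_spec, tr_spec])]

instance {B B' : Finset M} (f : B ⟶ B') : IsOpenImmersion (D.F.map f) := D.opn (leOfHom f) _ (D.tr_spec _)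

theorem inB_of_factor {B K : Finset M} (h : B ⊆ K) {C : Type u} [CommRing C] [Algebra R C] (q : aT R C ⟶ D.X K)
    (l : aT R C ⟶ D.X B) (hl : l ≫ D.tr h = q) (v : A →ₐ[R] MonoidAlgebra C M)
    (hv : (DH R M ◁ q) ≫ D.φ K = fam v) : InB c B C v :=
  (D.rep B).mem C l v (by rw [← hv, ← hl, whiskerLeft_comp_assoc, D.tr_spec])

instance : (D.F ⋙ Scheme.forget).IsLocallyDirected := by
  classical
  constructor
  intro i j k fi fj xi xj h
  change (D.tr (leOfHom fi)).left xi = (D.tr (leOfHom fj)).left xj at h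
  let p : (D.X k).left := (D.tr (leOfHom fi)).left xi
  let κ : CommRingCat.{u} := (D.X k).left.residueField p
  let q₀ : Spec κ ⟶ (D.X k).left := (D.X k).left.fromSpecResidueField p
  letI : Algebra R κ := (Spec.preimage (q₀ ≫ (D.X k).hom)).hom.toAlgebra
  let q : aT R κ ⟶ D.X k := Over.homMk q₀ (Spec.map_preimage (q₀ ≫ (D.X k).hom)).symm
  haveI : ∀ {B B' : Finset M} (h : B ⊆ B'), IsOpenImmersion (D.tr h).left := fun h => D.opn h _ (D.tr_spec h)
  have hfac : ∀ {B : Finset M} (hB : B ⊆ k) (x : (D.X B).left), (D.tr hB).left x = p →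
      ∃ l : aT R κ ⟶ D.X B, l ≫ D.tr hB = q := by
    intro B hB x hx
    have hr : Set.range q₀ ⊆ Set.range (D.tr hB).left := by
      rintro _ ⟨z, rfl⟩
      exact ⟨x, hx.trans (Scheme.fromSpecResidueField_apply p z).symm⟩
    refine ⟨Over.homMk (IsOpenImmersion.lift (D.tr hB).left q₀ hr) ?_,
      Over.OverMorphism.ext (IsOpenImmersion.lift_fac _ _ _)⟩
    have h1 := IsOpenImmersion.lift_fac (D.tr hB).left q₀ hr
    refine (congrArg (_ ≫ ·) (Over.w (D.tr hB)).symm).trans ((Category.assoc _ _ _).symm.trans ?_)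
    rw [h1]
    exact Over.w q
  obtain ⟨li, hli⟩ := hfac (leOfHom fi) xi rfl
  obtain ⟨lj, hlj⟩ := hfac (leOfHom fj) xj h.symm
  obtain ⟨v, hv⟩ := exists_fam ((DH R M ◁ q) ≫ D.φ k)
  have hgh : IsGH v := (isHomFamily_fam v).1 (hv ▸ isHomFamily_whisker q (D.rep k).hom)
  have hin : InB c (i ∩ j) κ v := fun m hm => by
    rw [Finset.mem_inter, not_and_or] at hm
    rcases hm with hm | hm
    · exact D.inB_of_factor (leOfHom fi) q li hli v hv m hm
    · exact D.inB_of_factor (leOfHom fj) q lj hlj v hv m hm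
  obtain ⟨z, hz, -⟩ := (D.rep (i ∩ j)).lift κ v hgh hin
  let z₀ : (D.X (i ∩ j)).left := z.left (IsLocalRing.closedPoint κ)
  have hpt : ∀ {B : Finset M} (hl : i ∩ j ⊆ B) (hB : B ⊆ k),
      (D.tr hB).left ((D.tr hl).left z₀) = p := by
    intro B hl hB
    have e : z ≫ D.tr hl ≫ D.tr hB = q := (D.rep k).uniq _ _ (by
      rw [whiskerLeft_comp_assoc, whiskerLeft_comp_assoc, D.tr_spec, D.tr_spec, hz, hv])
    show (z ≫ D.tr hl ≫ D.tr hB).left (IsLocalRing.closedPoint κ) = p
    rw [e]
    exact Scheme.fromSpecResidueField_apply p _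
  refine ⟨i ∩ j, homOfLE Finset.inter_subset_left, homOfLE Finset.inter_subset_right, z₀, ?_, ?_⟩
  · show (D.tr _).left z₀ = xi
    exact (D.tr (leOfHom fi)).left.isOpenEmbedding.injective (hpt _ _)
  · show (D.tr _).left z₀ = xj
    exact (D.tr (leOfHom fj)).left.isOpenEmbedding.injective ((hpt _ _).trans h)

/-- the union -/
def union : Over (Spec (CommRingCat.of R)) :=
  Over.mk (colimit.desc D.F (Cocone.mk (Spec (CommRingCat.of R))
    { app := fun B => (D.X B).hom
      naturality := fun _ _ f => (Over.w (D.tr (leOfHom f))).trans (Category.comp_id _).symm }))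

/-- the inclusions -/
def inc (B : Finset M) : D.X B ⟶ D.union := Over.homMk (colimit.ι D.F B) (colimit.ι_desc _ _)

instance (B : Finset M) : IsOpenImmersion (D.inc B).left := inferInstanceAs (IsOpenImmersion (colimit.ι D.F B))

instance (B : Finset M) : Mono (D.inc B) :=
  (Over.forget _).mono_of_mono_map (inferInstanceAs (Mono (D.inc B).left))

theorem tr_inc {B B' : Finset M} (h : B ⊆ B') : D.tr h ≫ D.inc B' = D.inc B :=
  Over.OverMorphism.ext (colimit.w D.F (homOfLE h))

theorem exists_union_fam : ∃ υ : DH R M ⊗ D.union ⟶ AG R A, ∀ B, (DH R M ◁ D.inc B) ≫ υ = D.φ B := by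
  classical
  let 𝒰 : D.union.left.OpenCover := Scheme.IsLocallyDirected.openCover D.F
  let e : ∀ B : Finset M, piece 𝒰 B ⟶ D.X B := fun B => Over.homMk (𝟙 _) (by
    show 𝟙 _ ≫ (D.X B).hom = colimit.ι D.F B ≫ D.union.hom
    rw [Category.id_comp]
    exact (Over.w (D.inc B)).symm)
  obtain ⟨υ, hυ⟩ := HomDiag.exists_glue (H := DH R M) (G := AG R A) 𝒰 (fun B => (DH R M ◁ e B) ≫ D.φ B)
    (fun (i j : Finset M) X x a b hab => by
      have h1 : ((a ≫ e i) ≫ D.tr (Finset.subset_union_left (s₁ := i) (s₂ := j))) ≫ D.inc (i ∪ j) =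
          ((b ≫ e j) ≫ D.tr (Finset.subset_union_right (s₁ := i) (s₂ := j))) ≫ D.inc (i ∪ j) := by
        simp only [Category.assoc, tr_inc]
        apply Over.OverMorphism.ext
        have h0 := congrArg CommaMorphism.left hab
        show (a.left ≫ 𝟙 _) ≫ colimit.ι D.F i = (b.left ≫ 𝟙 _) ≫ colimit.ι D.F j
        rw [Category.comp_id, Category.comp_id]
        exact h0
      rw [lift_whiskerLeft_assoc, lift_whiskerLeft_assoc,
        ← D.tr_spec (Finset.subset_union_left (s₁ := i) (s₂ := j)),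
        ← D.tr_spec (Finset.subset_union_right (s₁ := i) (s₂ := j)), lift_whiskerLeft_assoc, lift_whiskerLeft_assoc,
        (cancel_mono _).1 h1])
  refine ⟨υ, fun B => ?_⟩
  let e' : D.X B ⟶ piece 𝒰 B := Over.homMk (𝟙 _) (by
    show 𝟙 _ ≫ (colimit.ι D.F B ≫ D.union.hom) = (D.X B).hom
    rw [Category.id_comp]
    exact Over.w (D.inc B))
  have h1 : D.inc B = e' ≫ pieceMap 𝒰 B := Over.OverMorphism.ext (Category.id_comp _).symm
  have h2 : e' ≫ e B = 𝟙 _ := Over.OverMorphism.ext (Category.id_comp _)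
  rw [h1, whiskerLeft_comp_assoc, hυ B, ← whiskerLeft_comp_assoc, h2]
  simp

theorem exists_factor {T : Over (Spec (CommRingCat.of R))} [CompactSpace T.left] (x : T ⟶ D.union) :
    ∃ (B : Finset M) (y : T ⟶ D.X B), y ≫ D.inc B = x := by
  classical
  let U : Finset M → TopologicalSpace.Opens D.union.left := fun B => (D.inc B).left.opensRange
  have hmono : Monotone U := fun B B' h z ⟨y, hy⟩ => ⟨(D.tr h).left y, by
    rw [← hy, ← Scheme.Hom.comp_apply, ← Over.comp_left, D.tr_inc]⟩
  have hcover : Set.range x.left ⊆ ⋃ B, (U B : Set D.union.left) := fun z _ => by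
    obtain ⟨B, y, hy⟩ := Scheme.IsLocallyDirected.ι_jointly_surjective D.F z
    exact Set.mem_iUnion.2 ⟨B, y, hy⟩
  obtain ⟨B, hB⟩ := (isCompact_range x.left.continuous).elim_directed_cover (fun B => (U B : Set D.union.left))
    (fun B => (U B).2) hcover (Monotone.directed_le fun a b h => hmono h)
  let y := IsOpenImmersion.lift (D.inc B).left x.left hB
  refine ⟨B, Over.homMk y ?_, Over.OverMorphism.ext (IsOpenImmersion.lift_fac _ _ _)⟩
  have h1 := IsOpenImmersion.lift_fac (D.inc B).left x.left hB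
  refine (congrArg (_ ≫ ·) (Over.w (D.inc B)).symm).trans ((Category.assoc _ _ _).symm.trans ?_)
  rw [h1]
  exact Over.w x

theorem exists_common {T : Over (Spec (CommRingCat.of R))} [CompactSpace T.left] (x x' : T ⟶ D.union) :
    ∃ (B : Finset M) (y y' : T ⟶ D.X B), y ≫ D.inc B = x ∧ y' ≫ D.inc B = x' := by
  classical
  obtain ⟨B₁, y₁, hy₁⟩ := D.exists_factor x
  obtain ⟨B₂, y₂, hy₂⟩ := D.exists_factor x'
  exact ⟨B₁ ∪ B₂, y₁ ≫ D.tr Finset.subset_union_left, y₂ ≫ D.tr Finset.subset_union_right,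
    by rw [Category.assoc, tr_inc, hy₁], by rw [Category.assoc, tr_inc, hy₂]⟩

/-- **The union represents all families of homomorphisms.** -/
theorem exists_representsHom [Module.Finite R W] : ∃ υ : DH R M ⊗ D.union ⟶ AG R A,
    AutFam.RepresentsHom (DH R M) (AG R A) D.union υ := by
  classical
  obtain ⟨υ, hυ⟩ := D.exists_union_fam
  have hom : AutFam.IsHomFamily (DH R M) (AG R A) υ := by
    refine isHomFamily_of_affine _ fun C _ _ a b t => ?_
    obtain ⟨B, y, rfl⟩ := D.exists_factor t
    have h := (D.rep B).hom _ a b y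
    rw [← hυ B] at h
    simpa only [lift_whiskerLeft_assoc] using h
  have hrep : Rep (fun _ _ _ _ => True) D.union υ := by
    refine ⟨hom, fun _ _ _ _ _ _ => trivial, fun C _ _ u hu _ => ?_⟩
    obtain ⟨F, hF⟩ := exists_finite_weights c u
    have hin : InB c F C u := fun m hm => LinearMap.ext fun w => by
      have h1 : proj c u m (1 ⊗ₜ w) = 0 := by rw [hF m hm]; rfl
      rwa [proj_tmul, one_smul] at h1
    obtain ⟨x, hx, -⟩ := (D.rep F).lift C u hu hin
    refine ⟨x ≫ D.inc F, ?_, fun x' hx' => ?_⟩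
    · show (DH R M ◁ (x ≫ D.inc F)) ≫ υ = _
      rw [whiskerLeft_comp_assoc, hυ, hx]
    · obtain ⟨B, y, y', hy, hy'⟩ := D.exists_common (x ≫ D.inc F) x'
      rw [← hy, ← hy']
      have h1 : (DH R M ◁ y) ≫ D.φ B = fam u := by
        rw [← hυ, ← whiskerLeft_comp_assoc, hy, whiskerLeft_comp_assoc, hυ, hx]
      have h2 : (DH R M ◁ y') ≫ D.φ B = fam u := by
        rw [← hυ, ← whiskerLeft_comp_assoc, hy']
        exact hx'
      rw [(D.rep B).uniq y' y (h2.trans h1.symm)]
  exact ⟨υ, hom, fun T ψ hψ => hrep.classify ψ hψ fun _ _ _ _ _ _ => trivial⟩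

theorem indQA : MoreMor.IsIndQuasiAffineHom D.union.hom := by
  refine QA.IndQA.hom_of_source fun V hV => ?_
  haveI : CompactSpace V.toScheme := isCompact_iff_compactSpace.mp hV
  let T : Over (Spec (CommRingCat.of R)) := Over.mk (V.ι ≫ D.union.hom)
  haveI : CompactSpace T.left := ‹CompactSpace V.toScheme›
  obtain ⟨B, y, hy⟩ := D.exists_factor (Over.homMk V.ι rfl : T ⟶ D.union)
  haveI := D.qa B
  have h : y.left ≫ (D.inc B).left = V.ι := congrArg CommaMorphism.left hy
  haveI : IsOpenImmersion (y.left ≫ (D.inc B).left) := by rw [h]; infer_instance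
  haveI : IsOpenImmersion y.left := IsOpenImmersion.of_comp y.left (D.inc B).left
  exact Scheme.IsQuasiAffine.of_isImmersion (X := T.left) y.left

theorem isSeparated (hs : ∀ B, IsSeparated (D.X B).hom) : IsSeparated D.union.hom := by
  haveI := QA.IndQA.quasiSeparated D.indQA
  refine IsSeparated.of_valuativeCriterion _ fun S => ⟨?_⟩
  rintro ⟨l₁, hl₁, hl₁'⟩ ⟨l₂, hl₂, hl₂'⟩
  ext : 1
  let T : Over (Spec (CommRingCat.of R)) := Over.mk S.i₂
  haveI : CompactSpace T.left := inferInstanceAs (CompactSpace (PrimeSpectrum S.R))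
  obtain ⟨B, y, y', hy, hy'⟩ := D.exists_common (Over.homMk l₁ hl₁' : T ⟶ D.union) (Over.homMk l₂ hl₂')
  haveI := hs B
  have h1 : y.left ≫ (D.inc B).left = l₁ := congrArg CommaMorphism.left hy
  have h2 : y'.left ≫ (D.inc B).left = l₂ := congrArg CommaMorphism.left hy'
  let j := Spec.map (CommRingCat.ofHom (algebraMap S.R S.K))
  have hj : j ≫ y.left = j ≫ y'.left := by
    rw [← cancel_mono (D.inc B).left, Category.assoc, Category.assoc, h1, h2, hl₁, hl₂]
  let Sq : ValuativeCommSq (D.X B).hom :=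
    ⟨S.R, S.K, j ≫ y.left, S.i₂, ⟨by rw [Category.assoc, Over.w y]; rfl⟩⟩
  haveI := IsSeparated.valuativeCriterion (D.X B).hom Sq
  have := congrArg CommSq.LiftStruct.l (Subsingleton.elim
    (⟨y.left, rfl, Over.w y⟩ : Sq.commSq.LiftStruct) ⟨y'.left, hj.symm, Over.w y'⟩)
  exact h1.symm.trans ((congrArg (· ≫ (D.inc B).left) this).trans h2)

end Sys

/-- **Homomorphisms from a diagonalisable group into a smooth affine group over a noetherian ring.** -/
theorem exists_hom_DH [IsNoetherianRing R] [Algebra.Smooth R A] :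
    ∃ (X : Over (Spec (CommRingCat.of R))) (υ : DH R M ⊗ X ⟶ AG R A),
      AutFam.RepresentsHom (DH R M) (AG R A) X υ ∧ Smooth X.hom ∧ IsSeparated X.hom ∧
        MoreMor.IsIndQuasiAffineHom X.hom := by
  classical
  obtain ⟨n, π, hπ⟩ := Algebra.FiniteType.iff_quotient_mvPolynomial''.1
    (inferInstance : Algebra.FiniteType R A)
  let a : Fin n → A := fun i => π (MvPolynomial.X i)
  have ha : Algebra.adjoin R (Set.range a) = ⊤ := by
    rw [show Set.range a = π '' Set.range MvPolynomial.X by rw [← Set.range_comp]; rfl, ← AlgHom.map_adjoin,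
      MvPolynomial.adjoin_range_X, Algebra.map_top, AlgHom.range_eq_top]
    exact hπ
  obtain ⟨V, hle, hfg, hV⟩ := Comod.exists_fg_stable (Coalgebra.comul (R := R) (A := A))
    (LinearMap.ext fun x => Coalgebra.coassoc_apply (R := R) x)
    (LinearMap.ext fun x => Coalgebra.lTensor_counit_comul (R := R) x)
    (Submodule.span R (Set.range a)) (Submodule.fg_span (Set.finite_range a))
  haveI : Module.Finite R V := Module.Finite.iff_fg.2 hfg
  obtain ⟨c, hc⟩ := exists_coact V hV
  let w : Fin n → V := fun i => ⟨a i, hle (Submodule.subset_span (Set.mem_range_self i))⟩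
  choose X φ hrep hsm hsep hqa hopn using fun B : Finset M => exists_bd c
    ((Coalgebra.counit (R := R) (A := A)).comp V.subtype) a ha w (fun i => hc (w i)) B
  let D : Sys (M := M) c :=
    { X := X, φ := φ, rep := hrep, qa := hqa,
      opn := fun {B B'} h s hs => hopn B' B h (X B) (φ B) (hrep B) s hs }
  obtain ⟨υ, hυ⟩ := D.exists_representsHom
  refine ⟨D.union, υ, hυ, ?_, D.isSeparated hsep, D.indQA⟩
  refine (IsZariskiLocalAtSource.iff_of_openCover (P := @Smooth) (Scheme.IsLocallyDirected.openCover D.F)).2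
    fun B => ?_
  show Smooth (colimit.ι D.F B ≫ D.union.hom)
  rw [show colimit.ι D.F B ≫ D.union.hom = (X B).hom from Over.w (D.inc B)]
  exact hsm B

end Groth.Agent.GrpHomRep
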