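import Groth.Agent.HomRep.FieldHom
import Groth.Agent.HomDiag.Local
import Groth.Agent.TorusLift.Bounded
import Groth.Prelude.Def_AutFam

/-!
# Families of homomorphisms from a diagonalisable group into an affine group over an affine base

Over an affine test scheme `Spec C` such a family is the same as an algebra map `A → C[M]` with the axioms
`TorusLift.IsGH`.
-/

set_option autoImplicit false
set_option linter.style.haveILetI false
set_option backward.isDefEq.respectTransparency false
set_option maxHeartbeats 800000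

universe u

open CategoryTheory Limits MonoidalCategory CartesianMonoidalCategory AlgebraicGeometry TensorProduct WithConv
open scoped CategoryTheory.Obj MonObj

noncomputable section

namespace Groth.Agent.GrpHomRep

open Groth.Agent.MTBridge Groth.Agent.TorusLift

variable {R : Type u} [CommRing R] {A : Type u} [CommRing A] [HopfAlgebra R A] {M : Type u} [CommGroup M]
  {B C : Type u} [CommRing B] [Algebra R B] [CommRing C] [Algebra R C]

/-- an affine test scheme -/
abbrev aT (R C : Type u) [CommRing R] [CommRing C] [Algebra R C] : Over (Spec (CommRingCat.of R)) :=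
  (Spec (CommRingCat.of C)).asOver (Spec (CommRingCat.of R))

/-- the diagonalisable group -/
abbrev DH (R M : Type u) [CommRing R] [CommGroup M] : Over (Spec (CommRingCat.of R)) :=
  (specGrp R (MonoidAlgebra R M)).X

/-- the affine group -/
abbrev AG (R A : Type u) [CommRing R] [CommRing A] [HopfAlgebra R A] : Over (Spec (CommRingCat.of R)) :=
  (specGrp R A).X

theorem spMap_inj {f g : B →ₐ[R] C} (h : spMap f = spMap g) : f = g :=
  AlgHom.ext fun x => DFunLike.congr_fun
    (congrArg CommRingCat.Hom.hom (Spec.map_injective (congrArg CommaMorphism.left h))) x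

theorem pt_one : (1 : Pt (AG R A) C) = spMap ((Algebra.ofId R C).comp (Bialgebra.counitAlgHom R A)) := by
  rw [spMap_eq_pt]
  exact (map_one Spec.mapMulEquiv).symm

/-- evaluation of a Laurent polynomial at a point -/
def ev (f : C →ₐ[R] B) (χ : MonoidAlgebra R M →ₐ[R] B) : MonoidAlgebra C M →ₐ[R] B :=
  MonoidAlgebra.liftNCAlgHom f (χ.toRingHom.toMonoidHom.comp (MonoidAlgebra.of R M)) fun _ _ => Commute.all _ _

theorem ev_single (f : C →ₐ[R] B) (χ : MonoidAlgebra R M →ₐ[R] B) (m : M) (c : C) :
    ev f χ (MonoidAlgebra.single m c) = f c * χ (MonoidAlgebra.single m 1) :=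
  MonoidAlgebra.liftNC_single _ _ _ _

theorem hom_ext_single {D : Type u} [CommRing D] [Algebra R D] {φ ψ : MonoidAlgebra C M →ₐ[R] D}
    (h : ∀ (m : M) (c : C), φ (MonoidAlgebra.single m c) = ψ (MonoidAlgebra.single m c)) : φ = ψ := by
  refine AlgHom.ext fun z => ?_
  induction z using MonoidAlgebra.induction_linear with
  | zero => simp
  | add a b ha hb => rw [map_add, map_add, ha, hb]
  | single m c => exact h m c

variable (R M C)

/-- the characters as functions on the product -/
def ιM : MonoidAlgebra R M →ₐ[R] MonoidAlgebra C M := MonoidAlgebra.mapAlgHom M (Algebra.ofId R C)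

/-- the constants as functions on the product -/
def ιC : C →ₐ[R] MonoidAlgebra C M := IsScalarTower.toAlgHom R C _

/-- the universal point of the product -/
def kpt : Pt (DH R M ⊗ aT R C) (MonoidAlgebra C M) := lift (spMap (ιM R M C)) (spMap (ιC R M C))

variable {R M C}

theorem ιM_single (m : M) : ιM R M C (MonoidAlgebra.single m 1) = MonoidAlgebra.single m 1 := by simp [ιM]

theorem ιC_apply (c : C) : ιC R M C c = MonoidAlgebra.single 1 c := by simp [ιC]

theorem lift_eq (f : C →ₐ[R] B) (χ : MonoidAlgebra R M →ₐ[R] B) :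
    (lift (spMap χ) (spMap f) : Pt (DH R M ⊗ aT R C) B) = spMap (ev f χ) ≫ kpt R M C := by
  rw [kpt, comp_lift, spMap_comp, spMap_comp]
  congr 2
  · exact HomRep.mext fun m => by rw [AlgHom.comp_apply, ιM_single, ev_single, map_one, one_mul]
  · refine AlgHom.ext fun c => ?_
    rw [AlgHom.comp_apply, ιC_apply, ev_single, ← MonoidAlgebra.one_def, map_one, mul_one]

instance isIso_kpt : IsIso (kpt R M C) := by
  haveI : IsIso ((Over.forget _).map (kpt R M C)) := by
    show IsIso (kpt R M C).left
    let e : C ⊗[R] MonoidAlgebra R M ≃ₐ[R] MonoidAlgebra C M :=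
      (MonoidAlgebra.scalarTensorEquiv R C).restrictScalars R
    let r := Algebra.TensorProduct.comm R (MonoidAlgebra R M) C
    haveI : IsIso (Spec.map (CommRingCat.ofHom (r.trans e).toAlgHom.toRingHom)) := by
      rw [show CommRingCat.ofHom (r.trans e).toAlgHom.toRingHom =
        (r.trans e).toRingEquiv.toCommRingCatIso.hom from rfl]
      infer_instance
    have hk : (kpt R M C).left = Spec.map (CommRingCat.ofHom (r.trans e).toAlgHom.toRingHom) ≫
        (pullbackSpecIso R (MonoidAlgebra R M) C).inv := by
      apply pullback.hom_ext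
      · rw [show (kpt R M C).left ≫ pullback.fst _ _ = (kpt R M C ≫ fst _ _).left from rfl, kpt, lift_fst,
          spMap_left, Category.assoc]
        erw [pullbackSpecIso_inv_fst]
        rw [← Spec.map_comp]
        congr 1
        ext : 1
        refine congrArg (fun g : MonoidAlgebra R M →ₐ[R] MonoidAlgebra C M ↦ g.toRingHom)
          (HomRep.mext (φ₁ := ιM R M C)
            (φ₂ := (r.trans e).toAlgHom.comp Algebra.TensorProduct.includeLeft) (fun m ↦ ?_))
        simp [ιM, r, e]
      · rw [show (kpt R M C).left ≫ pullback.snd _ _ = (kpt R M C ≫ snd _ _).left from rfl, kpt, lift_snd,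
          spMap_left, Category.assoc]
        erw [pullbackSpecIso_inv_snd]
        rw [← Spec.map_comp]
        congr 1
        ext : 1
        refine congrArg (fun g : C →ₐ[R] MonoidAlgebra C M ↦ g.toRingHom)
          (AlgHom.ext (φ₁ := ιC R M C) (φ₂ := (r.trans e).toAlgHom.comp Algebra.TensorProduct.includeRight)
            (fun x ↦ ?_))
        simp [ιC, r, e, MonoidAlgebra.scalarTensorEquiv_tmul, Algebra.smul_def]
    rw [hk]
    infer_instance
  exact isIso_of_reflects_iso (kpt R M C) (Over.forget _)

/-- the family attached to an algebra map -/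
def fam (u : A →ₐ[R] MonoidAlgebra C M) : DH R M ⊗ aT R C ⟶ AG R A := inv (kpt R M C) ≫ spMap u

theorem exists_fam (φ : DH R M ⊗ aT R C ⟶ AG R A) : ∃ u : A →ₐ[R] MonoidAlgebra C M, φ = fam u := by
  obtain ⟨u, hu⟩ := exists_pt (R := R) (A := A) (kpt R M C ≫ φ)
  exact ⟨u, by rw [fam, ← hu, IsIso.inv_hom_id_assoc]⟩

theorem fam_inj {u v : A →ₐ[R] MonoidAlgebra C M} (h : fam u = fam v) : u = v :=
  spMap_inj ((cancel_epi (inv (kpt R M C))).1 h)

theorem lift_fam (f : C →ₐ[R] B) (χ : MonoidAlgebra R M →ₐ[R] B) (u : A →ₐ[R] MonoidAlgebra C M) :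
    lift (spMap χ) (spMap f) ≫ fam u = spMap ((ev f χ).comp u) := by
  rw [lift_eq, fam, Category.assoc, IsIso.hom_inv_id_assoc, spMap_comp]

theorem whisker_fam (f : C →ₐ[R] B) (u : A →ₐ[R] MonoidAlgebra C M) :
    (DH R M ◁ spMap f) ≫ fam u = fam (mapT f u) := by
  rw [← cancel_epi (kpt R M B)]
  rw [kpt, lift_whiskerLeft_assoc, spMap_comp, lift_fam, ← kpt, fam, IsIso.hom_inv_id_assoc, TorusLift.mapT]
  congr 2
  exact hom_ext_single fun m c => by
    rw [ev_single, ιM_single, AlgHom.comp_apply, ιC_apply, MonoidAlgebra.single_mul_single, one_mul, mul_one,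
      MonoidAlgebra.mapAlgHom_single]

/-- a family is multiplicative as soon as it is on affine test schemes -/
theorem isHomFamily_of_affine {H G T : Over (Spec (CommRingCat.of R))} [GrpObj H] [GrpObj G] (φ : H ⊗ T ⟶ G)
    (h : ∀ (B : Type u) [CommRing B] [Algebra R B] (a b : Pt H B) (t : Pt T B),
      lift (a * b) t ≫ φ = (lift a t ≫ φ) * (lift b t ≫ φ)) :
    AutFam.IsHomFamily H G φ := by
  intro X a b t
  apply Over.OverMorphism.ext
  refine X.left.affineCover.hom_ext _ _ fun i => ?_
  let S : CommRingCat.{u} := Γ(X.left.affineCover.X i, ⊤)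
  obtain ⟨f₀, hf₀⟩ : ∃ f₀ : Spec S ⟶ X.left, X.left.affineCover.f i =
      (X.left.affineCover.X i).isoSpec.hom ≫ f₀ :=
    ⟨(X.left.affineCover.X i).isoSpec.inv ≫ X.left.affineCover.f i,
      (Iso.hom_inv_id_assoc (X.left.affineCover.X i).isoSpec (X.left.affineCover.f i)).symm⟩
  rw [hf₀, Category.assoc, Category.assoc]
  congr 1
  letI : Algebra R S := (Spec.preimage (f₀ ≫ X.hom)).hom.toAlgebra
  let c : Pt X S := Over.homMk f₀ (Spec.map_preimage (f₀ ≫ X.hom)).symm
  have hc := congrArg CommaMorphism.left (h S (c ≫ a) (c ≫ b) (c ≫ t))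
  rw [← MonObj.comp_mul, ← comp_lift_assoc, ← comp_lift_assoc, ← comp_lift_assoc, ← MonObj.comp_mul] at hc
  exact hc

/-- the change of characters -/
abbrev J (ψ : M →* M × M) : MonoidAlgebra C M →ₐ[R] MonoidAlgebra C (M × M) :=
  (MonoidAlgebra.mapDomainAlgHom C C ψ).restrictScalars R

theorem J_single (ψ : M →* M × M) (m : M) (c : C) :
    J (R := R) ψ (MonoidAlgebra.single m c) = MonoidAlgebra.single (ψ m) c :=
  MonoidAlgebra.mapDomain_single

theorem ev_J (ψ : M →* M × M) : ev (IsScalarTower.toAlgHom R C (MonoidAlgebra C (M × M)))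
    ((J (R := R) (C := C) ψ).comp (ιM R M C)) = J ψ := by
  refine hom_ext_single fun m c => ?_
  rw [ev_single, AlgHom.comp_apply, ιM_single, J_single, J_single]
  simp [MonoidAlgebra.single_mul_single]

open scoped Classical in
theorem universal_iff (u : A →ₐ[R] MonoidAlgebra C M) :
    (toConv ((J (MonoidHom.inl M M)).comp u) * toConv ((J (MonoidHom.inr M M)).comp u)).ofConv =
        (J ((MonoidHom.id M).prod (MonoidHom.id M))).comp u ↔
      ∀ (x : A) (m n : M), coef₂ u m n (Coalgebra.comul x) = if m = n then coef u m x else 0 := by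
  have key : ∀ (x : A) (m n : M),
      ((toConv ((J (R := R) (MonoidHom.inl M M)).comp u) * toConv ((J (MonoidHom.inr M M)).comp u)).ofConv x).coeff
        (m, n) = coef₂ u m n (Coalgebra.comul x) := by
    intro x m n
    rw [AlgHom.convMul_apply]
    induction Coalgebra.comul (R := R) x using TensorProduct.induction_on with
    | zero => simp
    | add a b ha hb => simp only [map_add, MonoidAlgebra.coeff_add, Finsupp.add_apply, ha, hb]
    | tmul a b =>
      rw [coef₂_tmul]
      exact HomDiag.coeff_mul_inl_inr (u a) (u b) m n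
  have key' : ∀ (x : A) (m n : M),
      (((J (R := R) ((MonoidHom.id M).prod (MonoidHom.id M))).comp u) x).coeff (m, n) =
        if m = n then coef u m x else 0 := fun x m n => HomDiag.coeff_diag (u x) m n
  constructor
  · intro h x m n
    rw [← key, h, key']
  · intro h
    refine AlgHom.ext fun x => MonoidAlgebra.ext (Finsupp.ext fun p => ?_)
    obtain ⟨m, n⟩ := p
    rw [key, key', h]

theorem conv_J :
    (toConv ((J (R := R) (C := C) (MonoidHom.inl M M)).comp (ιM R M C)) *
      toConv ((J (MonoidHom.inr M M)).comp (ιM R M C))).ofConv =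
      (J ((MonoidHom.id M).prod (MonoidHom.id M))).comp (ιM R M C) := by
  refine HomRep.mext fun m => ?_
  rw [HomRep.conv_single, AlgHom.comp_apply, AlgHom.comp_apply, AlgHom.comp_apply, ιM_single, J_single, J_single,
    J_single, MonoidAlgebra.single_mul_single, one_mul]
  simp

/-- **Families over an affine test scheme are the maps with weights.** -/
theorem isHomFamily_fam (u : A →ₐ[R] MonoidAlgebra C M) :
    AutFam.IsHomFamily (DH R M) (AG R A) (fam u) ↔ IsGH u := by
  classical
  constructor
  · intro h
    have huniv := (universal_iff u).1 (spMap_inj (by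
      rw [← HomRep.spMap_mul, ← ev_J (MonoidHom.inl M M), ← ev_J (MonoidHom.inr M M), ← lift_fam, ← lift_fam,
        ← h, HomRep.spMap_mul, conv_J, lift_fam, ev_J]))
    refine ⟨fun x m => by rw [huniv, if_pos rfl], fun x m n hmn => by rw [huniv, if_neg hmn], fun x => ?_⟩
    let χ : MonoidAlgebra R M →ₐ[R] C := (Algebra.ofId R C).comp (Bialgebra.counitAlgHom R (MonoidAlgebra R M))
    have h1 := h _ (spMap χ) (spMap χ) (spMap (AlgHom.id R C))
    rw [HomRep.spMap_mul, show (toConv χ * toConv χ).ofConv = χ from HomRep.mext fun m => by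
      rw [HomRep.conv_single]; simp [χ]] at h1
    have h2 : (lift (spMap χ) (spMap (AlgHom.id R C)) ≫ fam u : Pt (AG R A) C) = 1 :=
      mul_eq_left.1 h1.symm
    rw [lift_fam, pt_one] at h2
    have h3 := DFunLike.congr_fun (spMap_inj h2) x
    rw [AlgHom.comp_apply] at h3
    refine Eq.trans ?_ h3
    generalize u x = z
    induction z using MonoidAlgebra.induction_linear with
    | zero => simp
    | add a b ha hb => rw [MonoidAlgebra.coeff_add, Finsupp.sum_add_index' (fun _ => rfl) fun _ _ _ => rfl, ha, hb,
        map_add]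
    | single m c => simp [ev_single, χ]
  · intro h
    refine isHomFamily_of_affine _ fun B _ _ a b t => ?_
    obtain ⟨χ₁, rfl⟩ := exists_pt a
    obtain ⟨χ₂, rfl⟩ := exists_pt b
    obtain ⟨f, rfl⟩ : ∃ f : C →ₐ[R] B, t = spMap f := exists_spMap_of_affine t
    rw [HomRep.spMap_mul, lift_fam, lift_fam, lift_fam, HomRep.spMap_mul]
    refine congrArg spMap ?_
    let g : M × M →* B := (χ₁.toRingHom.toMonoidHom.comp (MonoidAlgebra.of R M)).coprod
      (χ₂.toRingHom.toMonoidHom.comp (MonoidAlgebra.of R M))
    let E : MonoidAlgebra C (M × M) →ₐ[R] B := MonoidAlgebra.liftNCAlgHom f g fun _ _ => Commute.all _ _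
    have hE : ∀ (p : M × M) (c : C), E (MonoidAlgebra.single p c) =
        f c * (χ₁ (MonoidAlgebra.single p.1 1) * χ₂ (MonoidAlgebra.single p.2 1)) := fun p c =>
      MonoidAlgebra.liftNC_single _ _ _ _
    have e1 : ev f χ₁ = E.comp (J (MonoidHom.inl M M)) := hom_ext_single fun m c => by
      rw [ev_single, AlgHom.comp_apply, J_single, hE]
      simp [← MonoidAlgebra.one_def]
    have e2 : ev f χ₂ = E.comp (J (MonoidHom.inr M M)) := hom_ext_single fun m c => by
      rw [ev_single, AlgHom.comp_apply, J_single, hE]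
      simp [← MonoidAlgebra.one_def]
    have e3 : ev f (toConv χ₁ * toConv χ₂).ofConv = E.comp (J ((MonoidHom.id M).prod (MonoidHom.id M))) :=
      hom_ext_single fun m c => by
        rw [ev_single, AlgHom.comp_apply, J_single, hE, HomRep.conv_single]
        rfl
    have hU := (universal_iff u).2 fun x m n => by
      split_ifs with e
      · subst e; exact h.comul x m
      · exact h.comul_ne x m n e
    rw [e1, e2, e3, AlgHom.comp_assoc, AlgHom.comp_assoc, AlgHom.comp_assoc, ← hU]
    refine AlgHom.ext fun x => ?_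
    rw [AlgHom.comp_apply, AlgHom.convMul_apply, AlgHom.convMul_apply]
    induction Coalgebra.comul (R := R) x using TensorProduct.induction_on with
    | zero => simp
    | add p q hp hq => simp only [map_add, hp, hq]
    | tmul p q => simp
where
  /-- morphisms of affine test schemes -/
  exists_spMap_of_affine {B C : Type u} [CommRing B] [Algebra R B] [CommRing C] [Algebra R C]
      (t : Pt (aT R C) B) : ∃ f : C →ₐ[R] B, t = spMap f := by
    refine ⟨{ (Spec.preimage t.left).hom with commutes' := fun r => ?_ }, Over.OverMorphism.ext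
      (Spec.map_preimage t.left).symm⟩
    have h : CommRingCat.ofHom (algebraMap R C) ≫ Spec.preimage t.left = CommRingCat.ofHom (algebraMap R B) := by
      apply Spec.map_injective
      rw [Spec.map_comp, Spec.map_preimage]
      exact Over.w t
    exact RingHom.congr_fun (congrArg CommRingCat.Hom.hom h) r

end Groth.Agent.GrpHomRep
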