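import Groth.Agent.GrpHomRep.Bounded
import Groth.Agent.HomDiag.Const
import Groth.Agent.QA.IndQA
import Groth.Agent.InfLift.SmoothLift
import Mathlib.AlgebraicGeometry.ValuativeCriterion

/-!
# Homomorphisms from a diagonalisable group into a smooth affine group over a noetherian ring

The schemes of homomorphisms with weights in a finite set form a directed system of open immersions; the
colimit represents all homomorphisms and is smooth, separated and ind-quasi-affine.
-/

set_option autoImplicit false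
set_option linter.style.haveILetI false
set_option backward.isDefEq.respectTransparency false
set_option maxHeartbeats 800000

universe u

open CategoryTheory Limits MonoidalCategory CartesianMonoidalCategory AlgebraicGeometry TensorProduct
open scoped CategoryTheory.Obj MonObj

noncomputable section

namespace Groth.Agent.GrpHomRep

open Groth.Agent.MTBridge Groth.Agent.TorusLift

variable {R : Type u} [CommRing R] {A : Type u} [CommRing A] [HopfAlgebra R A] {M : Type u} [CommGroup M]
  {W : Type u} [AddCommGroup W] [Module R W] (c : Coact R A W)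

theorem wtIdeal_mono {R' : Type u} [CommRing R'] [Algebra R R'] (u : A →ₐ[R] MonoidAlgebra R' M) {B B' : Finset M}
    (h : B ⊆ B') : wtIdeal c u B ≤ wtIdeal c u B' := fun _ hg m hm w => hg m (fun h' => hm (h h')) w

theorem wtOpen_mono {R' : Type u} [CommRing R'] [Algebra R R'] (u : A →ₐ[R] MonoidAlgebra R' M) {B B' : Finset M}
    (h : B ⊆ B') : wtOpen c u B ≤ wtOpen c u B' := fun _ hp hp' => hp fun _ hg => hp' (wtIdeal_mono c u h hg)

/-- a family is recovered from its pullback -/
theorem affP_pullback {P : FamPred R A M} {X T : Over (Spec (CommRingCat.of R))} {φ : DH R M ⊗ X ⟶ AG R A}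
    (hX : AffP P φ) (v : T ⟶ X) : AffP P ((DH R M ◁ v) ≫ φ) := fun C _ _ x u hu =>
  hX C (x ≫ v) u (by rw [whiskerLeft_comp_assoc, hu])

theorem affP_mono {B B' : Finset M} (h : B ⊆ B') {T : Over (Spec (CommRingCat.of R))}
    {φ : DH R M ⊗ T ⟶ AG R A} (hT : AffP (InB c B) φ) : AffP (InB c B') φ :=
  fun C _ _ x u hu m hm => hT C x u hu m fun h' => hm (h h')

/-- **The scheme of homomorphisms with weights in `B`.** -/
theorem exists_bd [IsNoetherianRing R] [Algebra.Smooth R A] [Module.Finite R W] (e : W →ₗ[R] R) {n : ℕ}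
    (a : Fin n → A) (ha : Algebra.adjoin R (Set.range a) = ⊤) (w : Fin n → W)
    (hw : ∀ i, TensorProduct.lid R A (e.rTensor A (c.ρ (w i))) = a i) (B' : Finset M) :
    ∃ (X : Over (Spec (CommRingCat.of R))) (φ : DH R M ⊗ X ⟶ AG R A), Rep (InB c B') X φ ∧ Smooth X.hom ∧
      IsSeparated X.hom ∧ X.left.IsQuasiAffine ∧
      ∀ (B : Finset M), B ⊆ B' → ∀ (Y : Over (Spec (CommRingCat.of R))) (ψ : DH R M ⊗ Y ⟶ AG R A),
        Rep (InB c B) Y ψ → ∀ s : Y ⟶ X, (DH R M ◁ s) ≫ φ = ψ → IsOpenImmersion s.left := by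
  obtain ⟨R', _, _, u, hft, hu, -, huniv, hinj⟩ := exists_bounded (M := M) a ha B'
  haveI := hft
  haveI : IsNoetherianRing R' := Algebra.FiniteType.isNoetherianRing R R'
  let P₀ : FamPred R A M := fun C _ _ v => ∀ i, ∀ m ∉ B', coef v m (a i) = 0
  have hsub : ∀ (B : Finset M), B ⊆ B' → ∀ (C : Type u) [CommRing C] [Algebra R C]
      (v : A →ₐ[R] MonoidAlgebra C M), IsGH v → InB c B C v → P₀ C v := fun B hB C _ _ v _ hv i m hm => by
    rw [← hw, coef_matrix, hv m fun h => hm (hB h), LinearMap.zero_apply, map_zero]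
  have hrep := rep_wtX c B' hu P₀ (hsub B' (le_refl _)) huniv hinj
  refine ⟨wtX c u B', wtFam c u B', hrep, ?_, ?_, ?_, fun B hB Y ψ hY s hs => ?_⟩
  · haveI : LocallyOfFinitePresentation (aT R R').hom := by
      show LocallyOfFinitePresentation (Spec.map (CommRingCat.ofHom (algebraMap R R')))
      rw [HasRingHomProperty.Spec_iff (P := @LocallyOfFinitePresentation)]
      exact RingHom.finitePresentation_algebraMap.2 (Algebra.FinitePresentation.of_finiteType.1 hft)
    haveI : LocallyOfFinitePresentation (wtX c u B').hom :=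
      inferInstanceAs (LocallyOfFinitePresentation ((wtOpen c u B').ι ≫ (aT R R').hom))
    refine Groth.Agent.InfLift.smooth_of_isFormallySmoothHom _ fun T _ I hI f b hfb => ?_
    letI : Algebra R T := (Spec.preimage b).hom.toAlgebra
    have hb : b = (aT R T).hom := (Spec.map_preimage b).symm
    let x₀ : aT R (T ⧸ I) ⟶ wtX c u B' := Over.homMk f (by
      show f ≫ (wtX c u B').hom = Spec.map (CommRingCat.ofHom (algebraMap R (T ⧸ I)))
      rw [← hfb, hb]
      show Spec.map _ ≫ Spec.map _ = _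
      rw [← Spec.map_comp]
      rfl)
    obtain ⟨v₀, hv₀⟩ := exists_fam ((DH R M ◁ x₀) ≫ wtFam c u B')
    have hgh₀ : IsGH v₀ := (isHomFamily_fam v₀).1 (hv₀ ▸ isHomFamily_whisker x₀ hrep.hom)
    obtain ⟨v, hv, hvk⟩ := exists_gh_lift I ⟨2, hI⟩ v₀ hgh₀
    have h1 := (inB_mapT_iff c B' hv (Ideal.Quotient.mkₐ R I)).1 (by rw [hvk]; exact hrep.mem _ x₀ v₀ hv₀)
    have htop : wtIdeal c v B' = ⊤ := by
      by_contra hne
      obtain ⟨p, hp, hle⟩ := Ideal.exists_le_maximal _ hne
      have hIp : I ≤ p := fun t ht => by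
        refine hp.isPrime.mem_of_pow_mem 2 ?_
        have h2 : t ^ 2 ∈ I ^ 2 := Ideal.pow_mem_pow ht 2
        rw [hI] at h2
        rw [(Submodule.mem_bot T).1 h2]
        exact zero_mem _
      have h2 : (1 : T ⧸ I) ∈ p.map (Ideal.Quotient.mkₐ R I) :=
        Ideal.map_mono hle (h1 ▸ Submodule.mem_top)
      obtain ⟨t, ht, ht'⟩ := (Ideal.mem_map_iff_of_surjective _ Ideal.Quotient.mk_surjective).1 h2
      have h3 : 1 - t ∈ I := by
        rw [← Ideal.Quotient.eq_zero_iff_mem, map_sub, map_one, sub_eq_zero]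
        exact ht'.symm
      exact hp.ne_top ((Ideal.eq_top_iff_one p).2 (sub_add_cancel (1 : T) t ▸ add_mem (hIp h3) ht))
    have hInB : InB c B' T v := fun m hm => LinearMap.ext fun y => by
      have h2 : (1 : T) ∈ wtIdeal c v B' := htop ▸ Submodule.mem_top
      have h3 := h2 m hm y
      rwa [one_smul] at h3
    obtain ⟨x, hx, -⟩ := hrep.lift T v hv hInB
    have hxx : spMap (Ideal.Quotient.mkₐ R I) ≫ x = x₀ := hrep.uniq _ _ (by
      rw [whiskerLeft_comp_assoc, hx, whisker_fam, hvk, ← hv₀])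
    exact ⟨x.left, congrArg CommaMorphism.left hxx, (Over.w x).trans hb.symm⟩
  · exact inferInstanceAs (IsSeparated ((wtOpen c u B').ι ≫ Spec.map _))
  · haveI : CompactSpace ↥(wtX c u B').left :=
      isCompact_iff_compactSpace.mp (TopologicalSpace.NoetherianSpace.isCompact _)
    haveI : IsAffine (aT R R').left := inferInstanceAs (IsAffine (Spec (CommRingCat.of R')))
    haveI : IsImmersion (wtι c u B').left := inferInstanceAs (IsImmersion (wtOpen c u B').ι)
    exact Scheme.IsQuasiAffine.of_isImmersion (wtι c u B').left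
  · have hV := rep_wtX c B hu P₀ (hsub B hB) huniv hinj
    obtain ⟨e₁, he₁, -⟩ := hV.classify ψ hY.hom hY.mem
    obtain ⟨e₂, he₂, -⟩ := hY.classify _ hV.hom hV.mem
    have h12 : e₁ ≫ e₂ = 𝟙 _ := hY.uniq _ _ (by rw [whiskerLeft_comp_assoc, he₂, he₁]; simp)
    have h21 : e₂ ≫ e₁ = 𝟙 _ := hV.uniq _ _ (by rw [whiskerLeft_comp_assoc, he₁, he₂]; simp)
    let j : wtX c u B ⟶ wtX c u B' := Over.homMk ((Spec (CommRingCat.of R')).homOfLE (wtOpen_mono c u hB))
      (Scheme.homOfLE_ι_assoc _ (wtOpen_mono c u hB) _)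
    have hj : j ≫ wtι c u B' = wtι c u B := Over.OverMorphism.ext (Scheme.homOfLE_ι _ (wtOpen_mono c u hB))
    have hsj : s = e₁ ≫ j := hrep.uniq _ _ (by
      rw [hs, ← he₁, whiskerLeft_comp_assoc]
      show _ = (DH R M ◁ e₁) ≫ (DH R M ◁ j) ≫ (DH R M ◁ wtι c u B') ≫ fam u
      rw [← whiskerLeft_comp_assoc (DH R M) j, hj])
    haveI : IsIso e₁.left := ⟨e₂.left, congrArg CommaMorphism.left h12, congrArg CommaMorphism.left h21⟩
    haveI : IsOpenImmersion j.left :=
      inferInstanceAs (IsOpenImmersion ((Spec (CommRingCat.of R')).homOfLE (wtOpen_mono c u hB)))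
    rw [hsj, Over.comp_left]
    infer_instance

end Groth.Agent.GrpHomRep
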