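import Groth.Agent.GrpHomRep.Colim
import Groth.Agent.TorusLift.Model
import Groth.Agent.HomRep.FEt
import Groth.Agent.HomDiag.Rep
import Groth.Agent.HomDiag.DescentFpqc
import Groth.Agent.MTDescent.Epi
import Groth.Agent.FpqcDescent.Sep
import Groth.Agent.QA.IndQA
import Groth.Agent.MTBridge.MonoTori
import Groth.Agent.MTBridge.EssFree

/-!
# Representability of homomorphisms from groups of multiplicative type into smooth affine groups
-/

set_option autoImplicit false
set_option linter.style.haveILetI false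
set_option backward.isDefEq.respectTransparency false
set_option maxHeartbeats 800000

universe u

open CategoryTheory Limits MonoidalCategory CartesianMonoidalCategory AlgebraicGeometry
open scoped CategoryTheory.Obj MonObj

noncomputable section

namespace Groth.Agent.GrpHomRep

open Groth.Agent.MTBridge

/-- **The split case over an affine base.** -/
theorem exists_hom_affine {R : Type u} [CommRing R] (G : Over (Spec (CommRingCat.of R))) [GrpObj G]
    [IsAffineHom G.hom] [Smooth G.hom] (M : Type) [AddCommGroup M] :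
    ∃ (X : Over (Spec (CommRingCat.of R))) (υ : Red.DS (Spec (CommRingCat.of R)) M ⊗ X ⟶ G),
      AutFam.RepresentsHom (Red.DS (Spec (CommRingCat.of R)) M) G X υ ∧ Smooth X.hom ∧ IsSeparated X.hom ∧
        MoreMor.IsIndQuasiAffineHom X.hom := by
  obtain ⟨R₀, A, _, _, _, _, _, hA, ⟨eG⟩⟩ := TorusLift.exists_model G
  haveI := hA
  let j := Spec.map (CommRingCat.ofHom (algebraMap R₀ R))
  let M' : Type u := ULift.{u} (Multiplicative M)
  haveI : DecidableEq M' := Classical.decEq _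
  obtain ⟨X₀, υ₀, hυ₀, hsm, hsep, hqa⟩ := exists_hom_DH (R := R₀) (A := A) (M := M')
  obtain ⟨e⟩ := nonempty_DS_iso R₀ M
  obtain ⟨e'⟩ := nonempty_specGrp_iso (R := R₀)
    (MonoidAlgebra.domCongrBialgEquiv R₀ R₀ (MulEquiv.ulift (α := Multiplicative M)))
  let eD : Grp.mk (DH R₀ M') ≅ Grp.mk (Red.DS (Spec (CommRingCat.of R₀)) M) := (e ≪≫ e').symm
  obtain ⟨υ₁, hυ₁⟩ := HomRep.exists_representsHom_bc j hυ₀
  let eH : Grp.mk (Red.bc j (DH R₀ M')) ≅ Grp.mk (Red.DS (Spec (CommRingCat.of R)) M) :=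
    bcMapIso j eD ≪≫ bcDS j M
  obtain ⟨υ₂, hυ₂⟩ := HomRep.exists_representsHom_grpIso eH eG.symm hυ₁
  refine ⟨Red.bc j X₀, υ₂, hυ₂, ?_, ?_, ?_⟩
  · exact MorphismProperty.pullback_snd _ _ hsm
  · exact MorphismProperty.pullback_snd _ _ hsep
  · exact QA.IndQA.baseChange (IsPullback.of_hasPullback X₀.hom j) hqa

/-- **Homomorphisms from a group which is split along an fpqc covering.** -/
theorem exists_hom_of_split {S : Scheme.{u}} (H G : Over S) [GrpObj H] [GrpObj G] (hG : Smooth G.hom)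
    (hGa : IsAffineHom G.hom) {κ : Type u} (Y : κ → Scheme.{u}) (g : ∀ i, Y i ⟶ S)
    (hg : Presieve.ofArrows Y g ∈ Scheme.fpqcPrecoverage S)
    (hsplit : ∀ i, ∃ (M : Type) (_ : AddCommGroup M), Nonempty (Grp.mk (Red.bc (g i) H) ≅ Grp.mk (Red.DS (Y i) M))) :
    ∃ (A : Over S) (υ : H ⊗ A ⟶ G), AutFam.RepresentsHom H G A υ ∧ Smooth A.hom ∧ IsSeparated A.hom := by
  let κ' := Σ i, (Y i).affineCover.I₀
  let f : ∀ p : κ', (Y p.1).affineCover.X p.2 ⟶ S := fun p => (Y p.1).affineCover.f p.2 ≫ g p.1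
  have hf : Presieve.ofArrows _ f ∈ Scheme.fpqcPrecoverage S :=
    Precoverage.comp_mem_coverings g hg (fun i j => (Y i).affineCover.f j)
      (fun i => Scheme.zariskiPrecoverage_le_fpqcPrecoverage _ (Y i).affineCover.mem₀)
  have hloc : ∀ p : κ', ∃ (X : Over ((Y p.1).affineCover.X p.2)) (υ : Red.bc (f p) H ⊗ X ⟶ Red.bc (f p) G),
      AutFam.RepresentsHom (Red.bc (f p) H) (Red.bc (f p) G) X υ ∧ Smooth X.hom ∧ IsSeparated X.hom ∧
        MoreMor.IsIndQuasiAffineHom X.hom := by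
    intro p
    obtain ⟨M, _, hM⟩ := hsplit p.1
    obtain ⟨eH⟩ := nonempty_bc_split hM ((Y p.1).affineCover.f p.2)
    haveI : IsAffineHom (Red.bc (f p) G).hom := MorphismProperty.pullback_snd _ _ hGa
    haveI : Smooth (Red.bc (f p) G).hom := MorphismProperty.pullback_snd _ _ hG
    obtain ⟨X, υ, hυ, h1, h2, h3⟩ := exists_hom_affine (Red.bc (f p) G) M
    obtain ⟨υ', hυ'⟩ := HomRep.exists_representsHom_grpIso eH.symm (Iso.refl _) hυ
    exact ⟨X, υ', hυ', h1, h2, h3⟩
  choose X υ hυ hsm hsep hqa using hloc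
  obtain ⟨D, u, hD⟩ := HomDiag.Fpqc.exists_representsHom_of_fpqc (H := H) (G := G) f hf X υ hυ hqa
  have hiso : ∀ p : κ', ∃ e : Red.bc (f p) D ≅ X p, True := fun p => by
    obtain ⟨υb, hb⟩ := HomRep.exists_representsHom_bc (f p) hD
    obtain ⟨e, -⟩ := HomDiag.exists_iso_of_represents hb (hυ p)
    exact ⟨e, trivial⟩
  have key : ∀ (P : MorphismProperty Scheme.{u}) [P.RespectsIso] [IsZariskiLocalAtTarget P]
      [P.DescendsAlong (@Surjective ⊓ @Flat ⊓ @QuasiCompact)], (∀ p, P (X p).hom) → P D.hom := by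
    intro P _ _ _ hP
    refine FpqcDescent.of_fpqcPrecoverage P D.hom hf fun S' q hq => ?_
    obtain ⟨p⟩ := hq
    obtain ⟨e, -⟩ := hiso p
    haveI : IsIso e.hom.left := inferInstanceAs (IsIso ((Over.forget _).map e.hom))
    show P (Red.bc (f p) D).hom
    rw [← Over.w e.hom]
    exact (P.cancel_left_of_respectsIso _ _).2 (hP p)
  exact ⟨D, u, hD, key @Smooth hsm, key @IsSeparated hsep⟩

/-- **Homomorphisms from a group of multiplicative type.** -/
theorem exists_hom_multType {S : Scheme.{u}} (H G : Over S) [GrpObj H] [GrpObj G]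
    (hH : TwC.Locally S TwC.Topology.fpqc (fun S' f => ∃ (M : Type) (_ : AddCommGroup M),
      Nonempty (Grp.mk (Red.bc f H) ≅ Grp.mk (Red.DS S' M))))
    (hG : Smooth G.hom) (hGa : IsAffineHom G.hom) :
    ∃ (A : Over S) (υ : H ⊗ A ⟶ G), AutFam.RepresentsHom H G A υ ∧ Smooth A.hom ∧ IsSeparated A.hom := by
  obtain ⟨S', π, hflat, hsurj, hcov, hloc⟩ := hH
  haveI := hflat
  haveI := hsurj
  choose U hU hsp using hloc
  refine exists_hom_of_split H G hG hGa (κ := Σ _ : PUnit.{u + 1}, S') (fun p => (U p.2 : Scheme.{u}))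
    (fun p => (U p.2).ι ≫ π) ?_ (fun p => hsp p.2)
  exact Precoverage.comp_mem_coverings (fun _ : PUnit.{u + 1} => π)
    (Groth.Agent.SchDescent.mem_fpqc_singleton (Groth.Agent.MTDescent.singleton_mem π hcov))
    (fun _ s => (U s).ι)
    (fun _ => Scheme.zariskiPrecoverage_le_fpqcPrecoverage _
      (S'.openCoverOfIsOpenCover U (TopologicalSpace.IsOpenCover.mk (eq_top_iff.2 fun x _ =>
        TopologicalSpace.Opens.mem_iSup.2 ⟨x, hU x⟩))).mem₀)

/-- **Homomorphisms from a quasi-isotrivial group of multiplicative type.** -/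
theorem exists_hom_quasiIsotrivial {S : Scheme.{u}} (H G : Over S) [GrpObj H] [GrpObj G]
    (hH : TwC.Locally S TwC.Topology.etale (fun S' f => ∃ (M : Type) (_ : AddCommGroup M),
      Nonempty (Grp.mk (Red.bc f H) ≅ Grp.mk (Red.DS S' M))))
    (hG : Smooth G.hom) (hGa : IsAffineHom G.hom) :
    ∃ (A : Over S) (υ : H ⊗ A ⟶ G), AutFam.RepresentsHom H G A υ ∧ Smooth A.hom ∧ IsSeparated A.hom := by
  choose S' f hf hs hsp using hH
  refine exists_hom_of_split H G hG hGa (κ := S) S' f ?_ hsp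
  refine Scheme.fppfPrecoverage_le_fpqcPrecoverage _ ((Scheme.ofArrows_mem_precoverage_iff _).2
    ⟨fun x => ⟨x, hs x⟩, fun x => ?_⟩)
  haveI := hf x
  exact ⟨inferInstance, inferInstance⟩

end Groth.Agent.GrpHomRep
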